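import Cfsg.Agent.H321.IF.E6Norm
import Cfsg.Agent.H460.IFO.E6Std
import Cfsg.Agent.H460.IFO.Field
import Cfsg.Agent.H363.IFO.ESix
import Cfsg.Agent.H283.Fxo.OddIdx
import Cfsg.Agent.S1086

/-!
# S5719: `KillO` for `E₆(q)` (helper321)

* `no_diag` : inner-diagonal; `no_gf` : graph-field; `e6_odd_O`, `e6_O` : no counterexample with `|A|` odd in `E₆(F)`.
-/

set_option autoImplicit false
set_option linter.unusedSectionVars false

namespace Cfsg.Agent.H321.IFE6

open Subgroup Cfsg Cfsg.Lie Cfsg.Lie.ChevalleyDatum Cfsg.Agent.ChevalleyStructure Cfsg.Agent.ChevalleyStructure.Elts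
  Cfsg.Agent.ChevalleyStructure.GraphSymm
open Cfsg.Agent.BpExc.FamTw.Gr
open Cfsg.Agent.H296.ESixGF
open Cfsg.Agent.H79.SimpleGen Cfsg.Agent.H79.OutChev
open Cfsg.Agent.H209.Fxy Cfsg.Agent.H460.IFO Cfsg.Agent.H249.Pi.FldType

universe u

/-- the cube of a diagonal automorphism is inner -/
theorem cube_inner {F : Type u} [Field F] {d : MulAut ↥(chevE6.group F)} (hd : chevE6.IsDiagonalAut d) :
    ∃ t : ↥(chevE6.group F), d * d * d = MulAut.conj t := by
  obtain ⟨χ, hχ, rfl⟩ := H79.CharDiag.eq_diagAut hE hd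
  have hc := H79.DiagAuts.isD_diagAut (F := F) hE hχ
  obtain ⟨t, ht, hpos, hneg⟩ := Cfsg.Agent.BpExc.FamTw.Tor.exists_diag hp6 (F := F) (m := 3)
    (B := ![![4,3,5,6,4,2],![3,6,6,9,6,3],![5,6,10,12,8,4],![6,9,12,18,12,6],![4,6,8,12,10,5],
    ![2,3,4,6,5,4]]) (by
      intro i k
      exact Cfsg.Agent.BpExc.FamInst.inv_E6 i k)
    (b := fun i => ((χ (chevE6.simple i) : F)) ^ 3) (fun i => pow_ne_zero _ (Units.ne_zero _))
    (fun i => ⟨_, rfl⟩) (by norm_num)
  have htG : t ∈ chevE6.group F := ((le_sup_left : chevE6.diagonalSubgroup F ≤ chevE6.monomialSubgroup F).trans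
    (monomial_le_group hE F)) ht
  refine ⟨⟨t, htG⟩, ?_⟩
  refine IsD.unique ((hc.mul hc).mul hc) fun i a => ⟨Subtype.ext ?_, Subtype.ext ?_⟩
  · refine (hpos i a).trans ?_
    show _ = xG hE _ _
    congr 2
    show _ = ((χ _ * χ _ * χ _ : Fˣ) : F)
    push_cast
    ring
  · refine (hneg i a).trans ?_
    show _ = xG hE _ _
    congr 2
    show _ = (((χ _ * χ _ * χ _)⁻¹ : Fˣ) : F)
    push_cast
    congr 1
    ring

variable {F : Type} [Field F] [Fintype F] {A : Subgroup ↥(chevE6.group F)} {Γ : Subgroup (MulAut ↥(chevE6.group F))}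

/-- **no involution of diagonal type** -/
theorem no_diag (h : IF A Γ) (hO : Odd (Nat.card A)) {σ : MulAut ↥(chevE6.group F)} (hσ : σ ∈ Γ)
    (h2 : orderOf σ = 2) {y : ↥(chevE6.group F)} {d : MulAut ↥(chevE6.group F)} (hd : chevE6.IsDiagonalAut d)
    (e : σ = MulAut.conj y * d) : False := by
  obtain ⟨t, ht⟩ := cube_inner hd
  have hs : σ * σ = 1 := by rw [← pow_two, ← h2, pow_orderOf_eq_one]
  refine ne_conj h hO hσ h2 (y * d y * d (d y) * t) ?_
  have h3 : σ = σ * σ * σ := by rw [hs, one_mul]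
  rw [h3, map_mul, ← ht, map_mul, map_mul]
  have h4 : ∀ a, MulAut.conj (d a) = d * MulAut.conj a * d⁻¹ := fun a => by rw [mul_conj]; group
  rw [h4 (d y), h4 y, e]
  group

/-- **no involution of graph-field type** -/
theorem no_gf (h : IF A Γ) (hO : Odd (Nat.card A)) {σ : MulAut ↥(chevE6.group F)} (hσ : σ ∈ Γ)
    (h2 : orderOf σ = 2) {y : ↥(chevE6.group F)} {d g φ : MulAut ↥(chevE6.group F)} (hd : chevE6.IsDiagonalAut d)
    (hg : chevE6.IsGraphAut g) (hφ : chevE6.IsFieldAut φ) (hg1 : g ≠ 1) (hφ1 : φ ≠ 1)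
    (hxy : ∀ a, σ a = y * d (g (φ a)) * y⁻¹) : False := by
  have hs : σ * σ = 1 := by rw [← pow_two, ← h2, pow_orderOf_eq_one]
  obtain ⟨q, hq, hF, ⟨N, ⟨e⟩, hN, -⟩, -⟩ := comp hs hd hg hφ hg1 hφ1 hxy
  obtain ⟨p, hp⟩ := CharP.exists F
  have : Fact p.Prime := ⟨CharP.char_is_prime F p⟩
  have hfin : Finite ↥(chevE6.group F) := inferInstance
  let j : ↥N →* ↥(chevE6.group F) := (fixedSubgroup σ).subtype.comp N.subtype
  have hj : Function.Injective j := fun a b hab => Subtype.ext (Subtype.ext hab)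
  have hjf : ∀ k, σ (j k) = j k := fun k => k.1.2
  have hL : IsLieTypeChar p ↥N := by
    have : IsTwistedE6D4Char p ↥N := ⟨F, inferInstance, inferInstance, hp, q, hq, Or.inl ⟨hF, ⟨e⟩⟩⟩
    unfold IsLieTypeChar
    tauto
  have h3 := Cfsg.Agent.H283.Fxo.part_le_index_of_lie (Fact.out : p.Prime) hL (X := A.comap j) (odd_comap hO hj)
  have h4 := comap_lt h hσ h2 j hjf
  -- `q ^ 36` divides the order
  have h5 : q ^ 36 ∣ Nat.card ↥N := by
    rw [Nat.card_congr e.toEquiv, ← Cfsg.Agent.S1086.result hq hF]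
    exact Subgroup.card_dvd_of_le inf_le_right
  obtain ⟨r, m, hr, hm, rfl⟩ := hq
  have hrp : r = p := by
    have h6 : p ∣ Fintype.card F := by
      have := FiniteField.cast_card_eq_zero F
      exact (CharP.cast_eq_zero_iff F p _).1 this
    rw [hF] at h6
    have h7 := (Fact.out : p.Prime).dvd_of_dvd_pow ((Fact.out : p.Prime).dvd_of_dvd_pow h6)
    exact ((Nat.prime_dvd_prime_iff_eq Fact.out hr.nat_prime).1 h7).symm
  subst hrp
  have h6 : (r ^ m) ^ 36 ≤ r ^ (Nat.card ↥N).factorization r := by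
    rw [← pow_mul] at h5 ⊢
    exact Nat.pow_le_pow_right hr.nat_prime.pos
      ((hr.nat_prime.pow_dvd_iff_le_factorization Nat.card_pos.ne').1 h5)
  have h7 := (Nat.pow_le_pow_left (h6.trans h3) 6).trans_lt (h4.trans_le (index_le_card A))
  have h8 : Nat.card ↥(chevE6.group F) ≤ Nat.card F ^ 78 := Cfsg.Agent.H460.IFO.Six.card_le6
  rw [Nat.card_eq_fintype_card (α := F), hF] at h8
  have h9 := h7.trans_le h8
  rw [← pow_mul (r ^ m) 36 6, ← pow_mul (r ^ m) 2 78] at h9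
  have h10 : 1 < r ^ m := Nat.one_lt_pow hm.ne' hr.nat_prime.one_lt
  have h11 := (Nat.pow_lt_pow_iff_right h10).1 h9
  omega

/-- **`KillO` for `E₆(F)`, `F` odd.** -/
theorem e6_odd_O (hF : ringChar F ≠ 2) : KillO (chevE6.group F) := by
  intro A Γ h hO
  obtain ⟨σ, hσ, h2, -⟩ := exists_outer h hO
  have hs : σ * σ = 1 := by rw [← pow_two, ← h2, pow_orderOf_eq_one]
  obtain ⟨y, d, g, φ, hd, hg, hφ, e⟩ := Cfsg.Agent.H79.Steinberg.exists_fac hE σ
  by_cases hg1 : g = 1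
  · subst hg1
    by_cases hφ1 : φ = 1
    · subst hφ1
      exact no_diag h hO hσ h2 (y := y) hd (MulEquiv.ext fun a => e a)
    · exact no_field (by simp [Ex5]) h hO hσ h2 hd hφ hφ1 e
  · by_cases hφ1 : φ = 1
    · subst hφ1
      obtain ⟨ζ, d', ε, hε, h3, h4⟩ := norm_form hF hs hd hg hg1 e
      exact Cfsg.Agent.H460.IFO.Six.kill_std hF h hO hσ h2 hε h3 h4
    · exact no_gf h hO hσ h2 hd hg hφ hg1 hφ1 e

/-- **`KillO` for `E₆(F)`.** -/
theorem e6_O : ∀ (F : Type) [Field F] [Fintype F], IsSimpleGroup (chevE6.group F) → KillO (chevE6.group F) := by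
  intro F _ _ _
  by_cases hF : ringChar F = 2
  · refine Cfsg.Agent.H363.IFO.e6_even_O ?_
    have hc : CharP F 2 := hF ▸ ringChar.charP F
    exact even_iff_two_dvd.2 ((CharP.cast_eq_zero_iff F 2 _).1 (FiniteField.cast_card_eq_zero F))
  · exact e6_odd_O hF

end Cfsg.Agent.H321.IFE6
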