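import Cfsg.Agent.H321.IF.Red

/-!
# The normal form of the outer involutory automorphisms of graph type of `E₆(F)`, `F` odd (S5719, helper321)
-/

set_option autoImplicit false
set_option linter.unusedSectionVars false

namespace Cfsg.Agent.H321.IFE6

open Cfsg Cfsg.Lie Cfsg.Agent.ChevalleyStructure Cfsg.Agent.ChevalleyStructure.Elts
  Cfsg.Agent.ChevalleyStructure.RootCombGood Cfsg.Agent.ChevalleyStructure.RootWord
  Cfsg.Agent.ChevalleyStructure.GraphSymm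
open Cfsg.Agent.BpExc.FamTw.Gr
open Cfsg.Agent.H296.ESixGF
open Cfsg.Agent.H79.SimpleGen Cfsg.Agent.H79.OutChev
open Cfsg.Agent.ChevalleyStructure.TwistedE6Sigma (rho eps rho_lt rho_rho eps_sq)

universe u

variable {F : Type u} [Field F]

/-- the final normalisation -/
def FinNorm (F : Type u) [Field F] : Prop := ∀ {c : Fin chevE6.rank → Fˣ} {d : MulAut ↥(chevE6.group F)},
  IsD hE c d → (d * gr hp6.inList symmE6) * (d * gr hp6.inList symmE6) = 1 →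
  ∃ (ζ d' : MulAut ↥(chevE6.group F)) (ε : Fˣ), ε * ε = 1 ∧ IsD hE (fun i : Fin 6 => if i = 1 then ε else 1) d' ∧
    d * gr hp6.inList symmE6 = ζ⁻¹ * (d' * gr hp6.inList symmE6) * ζ

theorem norm_form_of [Finite F] (hWI : WordIndep) (hFN : FinNorm F) (h2 : (2 : F) ≠ 0)
    {σ d g : MulAut ↥(chevE6.group F)} {y : ↥(chevE6.group F)} (hσ : σ * σ = 1) (hd : chevE6.IsDiagonalAut d)
    (hg : chevE6.IsGraphAut g) (hg1 : g ≠ 1) (hxy : ∀ a, σ a = y * d (g a) * y⁻¹) :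
    ∃ (ζ d' : MulAut ↥(chevE6.group F)) (ε : Fˣ), ε * ε = 1 ∧
      IsD hE (fun i : Fin 6 => if i = 1 then ε else 1) d' ∧ σ = ζ⁻¹ * (d' * gr hp6.inList symmE6) * ζ := by
  have hg' : g = gr hp6.inList symmE6 := eq_gr hg hg1
  subst hg'
  obtain ⟨χ, hχ, rfl⟩ := H79.CharDiag.eq_diagAut hE hd
  have hc := H79.DiagAuts.isD_diagAut (F := F) hE hχ
  obtain ⟨d, hd'⟩ : ∃ d, d = H79.CharDiag.diagAut (F := F) hE hχ := ⟨_, rfl⟩
  rw [← hd'] at hc hxy
  obtain ⟨δ, hδ'⟩ : ∃ δ, δ = d * gam F := ⟨_, rfl⟩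
  have hδ : MA δ rho := by rw [hδ']; exact (ma_diag hc).mul ma_gam
  have hx : σ = δ * MulAut.conj (δ⁻¹ y) := by
    rw [mul_conj, MulAut.apply_inv_self, hδ']
    ext1 a
    rw [hxy, MulAut.mul_apply, MulAut.conj_apply]
    rfl
  obtain ⟨g1, n, hn, e1⟩ := mono6 h2 hδ hσ hx
  have h3 := conj_sq (g := g1) hσ
  rw [e1] at h3
  obtain ⟨w, hw, h4⟩ := exists_word hn
  obtain ⟨g2, h, hh, e2⟩ := reduce hWI h2 hδ _ w n hw h4 rfl h3
  have h5 := conj_sq (g := g2) h3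
  rw [e2] at h5
  have h6 : δ * MulAut.conj h = (d * MulAut.conj (gam F h)) * gam F := by
    rw [hδ', mul_assoc, mul_conj, mul_assoc]
  obtain ⟨c', hc'⟩ := isD_H (delta_H (ma_gam (F := F)) hh)
  rw [h6] at h5 e2
  obtain ⟨ζ, d', ε, hε, hd1, e3⟩ := hFN (hc.mul hc') h5
  refine ⟨ζ * MulAut.conj (g1 * g2)⁻¹, d', ε, hε, hd1, ?_⟩
  have e4 : σ = MulAut.conj g1 * (MulAut.conj g2 * ((d * MulAut.conj (gam F h)) * gam F) * (MulAut.conj g2)⁻¹) *
      (MulAut.conj g1)⁻¹ := by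
    rw [← e2, ← e1, map_inv, map_inv]
    group
  rw [e4, e3, mul_inv_rev, mul_inv_rev, map_mul, map_inv, map_inv]
  group

end Cfsg.Agent.H321.IFE6
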