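import Cfsg.Agent.H321.IF.Words
import Cfsg.Agent.H296.ESixGF
import Cfsg.Agent.H618.AO.DiagE6

/-!
# Automorphisms of `E₆(F)` permuting the root groups (S5719, helper321)

`MA α θ` : `α x_r(t) = x_{θ r}(κ_r t)`, `κ_r ≠ 0`, for all roots `r`.
-/

set_option autoImplicit false
set_option linter.unusedSectionVars false

namespace Cfsg.Agent.H321.IFE6

open Cfsg Cfsg.Lie Cfsg.Agent.ChevalleyStructure Cfsg.Agent.ChevalleyStructure.Elts
  Cfsg.Agent.ChevalleyStructure.RootCombGood Cfsg.Agent.ChevalleyStructure.RootWord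
  Cfsg.Agent.ChevalleyStructure.GraphSymm
open Cfsg.Agent.BpExc.FamTw.Gr
open Cfsg.Agent.H296.ESixGF
open Cfsg.Agent.H79.SimpleGen Cfsg.Agent.H79.OutChev
open Cfsg.Agent.ChevalleyStructure.TwistedE6Sigma (rho eps rho_lt rho_rho eps_sq)

universe u

theorem hE : InList chevE6 := hp6.inList

theorem G6 : Good chevE6 := RootComb.goodE6

theorem nroots6 : chevE6.nroots = 72 := rfl

theorem rank6 : chevE6.rank = 6 := rfl

variable {F : Type u} [Field F]

/-- the root elements -/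
noncomputable abbrev X (r : ℕ) (t : F) : ↥(chevE6.group F) := xS hE r t

/-- `α` permutes the root groups as `θ` -/
def MA (α : MulAut ↥(chevE6.group F)) (θ : ℕ → ℕ) : Prop :=
  ∀ r < 72, θ r < 72 ∧ ∃ κ : F, κ ≠ 0 ∧ ∀ t, α (X r t) = X (θ r) (κ * t)

variable {α β : MulAut ↥(chevE6.group F)} {θ η : ℕ → ℕ}

theorem MA.lt (h : MA α θ) {r : ℕ} (hr : r < 72) : θ r < 72 := (h r hr).1

theorem MA.mul (h1 : MA α θ) (h2 : MA β η) : MA (α * β) (fun r => θ (η r)) := by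
  intro r hr
  obtain ⟨h3, κ, hκ, h4⟩ := h2 r hr
  obtain ⟨h5, μ, hμ, h6⟩ := h1 (η r) h3
  refine ⟨h5, μ * κ, mul_ne_zero hμ hκ, fun t => ?_⟩
  rw [MulAut.mul_apply, h4, h6, mul_assoc]

theorem MA.congr (h : MA α θ) (he : ∀ r < 72, θ r = η r) : MA α η := by
  intro r hr
  rw [← he r hr]
  exact h r hr

theorem MA.inv (h : MA α θ) (hη : ∀ r < 72, η r < 72 ∧ θ (η r) = r) : MA α⁻¹ η := by
  intro r hr
  obtain ⟨h1, h2⟩ := hη r hr
  obtain ⟨h3, κ, hκ, h4⟩ := h (η r) h1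
  refine ⟨h1, κ⁻¹, inv_ne_zero hκ, fun t => ?_⟩
  have h5 := h4 (κ⁻¹ * t)
  rw [mul_inv_cancel_left₀ hκ, h2] at h5
  rw [← h5, MulAut.inv_apply_self]

theorem X_unique {r s : ℕ} (hr : r < 72) (hs : s < 72) {κ μ : F} (hκ : κ ≠ 0) (hμ : μ ≠ 0)
    (h : ∀ t : F, X r (κ * t) = X s (μ * t)) : r = s ∧ κ = μ := by
  have h1 : r = s := by
    refine NPerm.rootSubgroup_injective hE F hr hs ?_
    ext g
    rw [mem_rootSubgroup_iff hE, mem_rootSubgroup_iff hE]
    constructor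
    · rintro ⟨t, rfl⟩
      have h2 := congrArg Subtype.val (h (κ⁻¹ * t))
      rw [mul_inv_cancel_left₀ hκ] at h2
      exact ⟨_, h2⟩
    · rintro ⟨t, rfl⟩
      have h2 := congrArg Subtype.val (h (μ⁻¹ * t))
      rw [mul_inv_cancel_left₀ hμ] at h2
      exact ⟨_, h2.symm⟩
  subst h1
  refine ⟨rfl, ?_⟩
  have h2 := xS_injective hE hr (h 1)
  rwa [mul_one, mul_one] at h2

theorem MA.unique (h1 : MA α θ) (h2 : MA α η) {r : ℕ} (hr : r < 72) : θ r = η r := by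
  obtain ⟨h3, κ, hκ, h4⟩ := h1 r hr
  obtain ⟨h5, μ, hμ, h6⟩ := h2 r hr
  exact (X_unique h3 h5 hκ hμ fun t => (h4 t).symm.trans (h6 t)).1

theorem MA.one : MA (1 : MulAut ↥(chevE6.group F)) (fun r => r) := by
  intro r hr
  exact ⟨hr, 1, one_ne_zero, fun t => by rw [one_mul]; rfl⟩

/-- diagonal automorphisms -/
theorem exists_scal {c : Fin chevE6.rank → Fˣ} {d : MulAut ↥(chevE6.group F)} (hd : IsD hE c d) :
    ∃ χ : ℕ → Fˣ, chevE6.IsRootCharacter χ ∧ (∀ r < 72, ∀ t, d (X r t) = X r ((χ r : F) * t)) ∧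
      ∀ i : Fin chevE6.rank, χ (chevE6.simple i) = c i := by
  obtain ⟨χ, hχ, rfl⟩ := H79.CharDiag.eq_diagAut hE ((H79.DiagAuts.diagFacts hE F).isDiag c d hd)
  refine ⟨χ, hχ, fun r hr t => H79.CharDiag.diagAut_xS hE hχ hr t, fun i => ?_⟩
  have h1 := (hd i 1).1
  rw [H79.CharDiag.diagAut_xS hE hχ (simple_lt hE i.isLt)] at h1
  have h2 := xS_injective hE (simple_lt hE i.isLt) h1
  rw [mul_one, mul_one] at h2
  exact Units.ext h2

theorem ma_diag {c : Fin chevE6.rank → Fˣ} {d : MulAut ↥(chevE6.group F)} (hd : IsD hE c d) :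
    MA d (fun r => r) := by
  obtain ⟨χ, -, h, -⟩ := exists_scal hd
  exact fun r hr => ⟨hr, (χ r : F), (χ r).ne_zero, h r hr⟩

/-- the graph automorphism -/
noncomputable abbrev gam (F : Type u) [Field F] : MulAut ↥(chevE6.group F) := gr hp6.inList symmE6

def sg (r : Fin 72) : Fin 72 := symmE6.σ r

def ep (r : Fin 72) : ℤ := symmE6.ε r

theorem sg_eq : ∀ r : Fin 72, (sg r).val = rho r.val := by decide +kernel

theorem ep_eq : ∀ r : Fin 72, ep r = eps r.val := by decide +kernel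

theorem gam_X {r : ℕ} (hr : r < 72) (t : F) : gam F (X r t) = X (rho r) (((eps r : ℤ) : F) * t) := by
  have h := gr_xg (L := F) hp6.inList symmE6 ⟨r, hr⟩ t
  have e1 : (symmE6.σ ⟨r, hr⟩).val = rho r := sg_eq ⟨r, hr⟩
  have e2 : symmE6.ε ⟨r, hr⟩ = eps r := ep_eq ⟨r, hr⟩
  rw [e1, e2] at h
  exact h

theorem eps_ne {r : ℕ} (hr : r < 72) : ((eps r : ℤ) : F) ≠ 0 := by
  intro h
  have h1 := congrArg (fun z : ℤ => (z : F)) (eps_sq r hr)
  push_cast at h1
  rw [h, zero_mul] at h1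
  exact zero_ne_one h1

theorem ma_gam : MA (gam F) rho := fun r hr => ⟨rho_lt r hr, _, eps_ne hr, gam_X hr⟩

theorem gam_sq : gam F * gam F = 1 := gr_sq6

/-- the elements of `N` -/
theorem exists_word {n : ↥(chevE6.group F)} (hn : (n : GL chevE6.Idx F) ∈ chevE6.monomialSubgroup F) :
    ∃ w : List ℕ, (∀ a ∈ w, a < 6) ∧ MA (MulAut.conj n) (wact chevE6 w) := by
  let S : Subgroup (GL chevE6.Idx F) :=
    { carrier := {g | ∃ w : List ℕ, (∀ a ∈ w, a < 6) ∧ ∀ r < 72, ∃ κ : F, κ ≠ 0 ∧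
        ∀ t, g * xG hE r t * g⁻¹ = xG hE (wact chevE6 w r) (κ * t)}
      mul_mem' := by
        rintro a b ⟨v, hv, ha⟩ ⟨w, hw, hb⟩
        refine ⟨v ++ w, ?_, fun r hr => ?_⟩
        · intro i hi
          rcases List.mem_append.1 hi with h | h
          · exact hv i h
          · exact hw i h
        · obtain ⟨κ, hκ, h1⟩ := hb r hr
          obtain ⟨μ, hμ, h2⟩ := ha _ (wact_lt G6 hw hr)
          refine ⟨μ * κ, mul_ne_zero hμ hκ, fun t => ?_⟩
          rw [wact_append, mul_assoc μ, ← h2, ← h1]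
          group
      one_mem' := ⟨[], by simp, fun r _ => ⟨1, one_ne_zero, fun t => by rw [wact_nil]; simp⟩⟩
      inv_mem' := by
        rintro a ⟨v, hv, ha⟩
        have hv' : ∀ i ∈ v.reverse, i < 6 := fun i hi => hv i (List.mem_reverse.1 hi)
        refine ⟨v.reverse, hv', fun r hr => ?_⟩
        have hr' : wact chevE6 v.reverse r < 72 := wact_lt G6 hv' hr
        obtain ⟨κ, hκ, h1⟩ := ha _ hr'
        refine ⟨κ⁻¹, inv_ne_zero hκ, fun t => ?_⟩
        have h2 := h1 (κ⁻¹ * t)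
        rw [mul_inv_cancel_left₀ hκ, wact_reverse' G6 hv hr] at h2
        rw [← h2]
        group }
  have h1 : chevE6.monomialSubgroup F ≤ S := by
    refine NConj.monomial_le_of hE (fun h hh => ?_) fun i hi => ?_
    · exact ⟨[], by simp, fun r hr => by
        obtain ⟨c, hc, h1⟩ := BNChev.diagonal_conj hE hh hr
        exact ⟨c, hc, h1⟩⟩
    · refine ⟨[i], ?_, fun r hr => ?_⟩
      · intro a ha
        rw [List.mem_singleton] at ha
        subst ha
        exact hi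
      · obtain ⟨η, hη, h1, -⟩ := NConj.conj_x (F := F) hE hi hr
        refine ⟨η, ?_, h1⟩
        rcases hη with rfl | rfl
        · exact one_ne_zero
        · exact neg_ne_zero.2 one_ne_zero
  obtain ⟨w, hw, h2⟩ := h1 hn
  refine ⟨w, hw, fun r hr => ⟨wact_lt G6 hw hr, ?_⟩⟩
  obtain ⟨κ, hκ, h3⟩ := h2 r hr
  exact ⟨κ, hκ, fun t => Subtype.ext (h3 t)⟩

end Cfsg.Agent.H321.IFE6
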