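import Cfsg.Agent.H321.IF.NormOf
import Cfsg.Agent.H57.IF.E6Word
import Cfsg.Agent.H679.IF.E6Fin

/-!
# The normal form of the graph type involutions of `Aut E₆(F)`, `F` finite odd (S5719, helper321)

`norm_form` : `σ ~ d' * γ`, `d'` diagonal with parameters `(1, ε, 1, 1, 1, 1)`, `ε² = 1`.
-/

set_option autoImplicit false
set_option linter.unusedSectionVars false

namespace Cfsg.Agent.H321.IFE6

open Cfsg Cfsg.Lie Cfsg.Agent.ChevalleyStructure Cfsg.Agent.ChevalleyStructure.Elts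
  Cfsg.Agent.ChevalleyStructure.GraphSymm
open Cfsg.Agent.BpExc.FamTw.Gr
open Cfsg.Agent.H296.ESixGF
open Cfsg.Agent.H79.SimpleGen Cfsg.Agent.H79.OutChev

universe u

variable {F : Type u} [Field F]

theorem wordIndep : WordIndep := fun {_} hw h h' => H57.IFE6.word_indep hw h h'

theorem finNorm : FinNorm F := fun {_ _} hd hσ => by
  obtain ⟨ζ, d', ε, hε, h1, h2⟩ := H679.IF.E6Fin.fin_norm hd hσ
  refine ⟨ζ, d', ε, hε, ?_, h2⟩
  have e : (fun i : Fin chevE6.rank => if (i : ℕ) = 1 then ε else 1) =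
      (fun i : Fin 6 => if i = 1 then ε else 1 : Fin 6 → Fˣ) := by
    funext i
    revert i
    show ∀ i : Fin 6, (if (i : ℕ) = 1 then ε else 1) = if i = 1 then ε else 1
    intro i
    fin_cases i <;> rfl
  exact e ▸ h1

theorem norm_form_fin [Finite F] (h2 : (2 : F) ≠ 0)
    {σ d g : MulAut ↥(chevE6.group F)} {y : ↥(chevE6.group F)} (hσ : σ * σ = 1) (hd : chevE6.IsDiagonalAut d)
    (hg : chevE6.IsGraphAut g) (hg1 : g ≠ 1) (hxy : ∀ a, σ a = y * d (g a) * y⁻¹) :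
    ∃ (ζ d' : MulAut ↥(chevE6.group F)) (ε : Fˣ), ε * ε = 1 ∧
      IsD hE (fun i : Fin 6 => if i = 1 then ε else 1) d' ∧ σ = ζ⁻¹ * (d' * gr hp6.inList symmE6) * ζ :=
  norm_form_of wordIndep finNorm h2 hσ hd hg hg1 hxy

theorem norm_form {F : Type} [Field F] [Fintype F] (hF : ringChar F ≠ 2)
    {σ d g : MulAut ↥(chevE6.group F)} {y : ↥(chevE6.group F)} (hσ : σ * σ = 1) (hd : chevE6.IsDiagonalAut d)
    (hg : chevE6.IsGraphAut g) (hg1 : g ≠ 1) (hxy : ∀ a, σ a = y * d (g a) * y⁻¹) :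
    ∃ (ζ d' : MulAut ↥(chevE6.group F)) (ε : Fˣ), ε * ε = 1 ∧
      IsD hE (fun i : Fin 6 => if i = 1 then ε else 1) d' ∧ σ = ζ⁻¹ * (d' * gr hp6.inList symmE6) * ζ :=
  norm_form_fin (Ring.two_ne_zero hF) hσ hd hg hg1 hxy

end Cfsg.Agent.H321.IFE6
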