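import Cfsg.Agent.LieExceptional.BNPairCore

/-!
# Involutory automorphisms and the monomial subgroup (S5719, helper321)

`P` a (B,N)-pair of the finite group `T`, `B = U H`, `U` a `p`-group, `p` odd, `B ∩ N = H` of order prime to `p`,
`δ` an automorphism leaving `U` and `N` invariant, `δ * δ` "diagonal".
* `exists_mono` : an involutory automorphism `δ * conj y` is conjugate, under `T`, to some `δ * conj n`, `n ∈ N`.
-/

set_option autoImplicit false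

namespace Cfsg.Agent.H321.IFE6

open Cfsg Cfsg.Agent.LieExceptional.BNPairCore

universe u

theorem mul_conj {T : Type u} [Group T] (δ : MulAut T) (a : T) : δ * MulAut.conj a = MulAut.conj (δ a) * δ := by
  ext t
  simp [MulAut.mul_apply, MulAut.conj_apply]

theorem exists_sq {T : Type u} [Group T] {u : T} {m : ℕ} (hm : Odd m) (h : u ^ m = 1) : ∃ k : ℕ, u ^ k * u ^ k = u := by
  obtain ⟨j, hj⟩ := hm
  refine ⟨j + 1, ?_⟩
  have e : j + 1 + (j + 1) = m + 1 := by omega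
  rw [← pow_add, e, pow_succ, h, one_mul]

/-- **The monomial form.** -/
theorem exists_mono {T : Type u} [Group T] [Finite T] (P : BNPair T) {U H : Subgroup T} {p : ℕ} [hp : Fact p.Prime]
    (hp2 : p ≠ 2) (hU : IsPGroup p U) (hH : (Nat.card H).Coprime p) (hUH : ∀ h ∈ H, ∀ u ∈ U, h * u * h⁻¹ ∈ U)
    (hdis : U ⊓ H = ⊥) (hB : ∀ b ∈ P.B, ∃ u ∈ U, ∃ h ∈ H, b = u * h) (hUB : U ≤ P.B) (hHB : H ≤ P.B) (hHN : H ≤ P.N)
    (hBN : ∀ h ∈ P.B, h ∈ P.N → h ∈ H) {δ : MulAut T} (hδU : ∀ u ∈ U, δ u ∈ U) (hδB : ∀ b ∈ P.B, δ⁻¹ b ∈ P.B)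
    (hδN : ∀ n ∈ P.N, δ n ∈ P.N) (hδ : ∀ g : T, MulAut.conj g * (δ * δ) = 1 → g ∈ H) {y : T} {x : MulAut T}
    (hx : x * x = 1) (hxy : x = δ * MulAut.conj y) :
    ∃ (g n : T), n ∈ P.N ∧ MulAut.conj g⁻¹ * x * MulAut.conj g = δ * MulAut.conj n := by
  obtain ⟨n, hn, hy⟩ := bruhat (P := P) y
  obtain ⟨b1, hb1, b2, hb2, rfl⟩ := mem_C.1 hy
  -- first conjugation
  have hb3 : δ⁻¹ b2 * b1 ∈ P.B := mul_mem (hδB _ hb2) hb1
  obtain ⟨v, hv, h, hh, e3⟩ := hB _ hb3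
  obtain ⟨n', hn'⟩ : ∃ n', n' = h * n := ⟨_, rfl⟩
  have hn'N : n' ∈ P.N := hn' ▸ mul_mem (hHN hh) hn
  have e4 : MulAut.conj (b2⁻¹)⁻¹ * x * MulAut.conj b2⁻¹ = MulAut.conj (δ v) * (δ * MulAut.conj n') := by
    have h1 : MulAut.conj (b2⁻¹)⁻¹ = MulAut.conj (δ (δ⁻¹ b2)) := by rw [inv_inv, MulAut.apply_inv_self]
    have h2 : δ⁻¹ b2 * (b1 * n * b2) * b2⁻¹ = v * n' := by
      rw [hn', ← mul_assoc v, ← e3]
      group
    rw [h1, hxy, ← mul_assoc, ← mul_conj, ← mul_assoc (MulAut.conj (δ v)), ← mul_conj, mul_assoc δ, mul_assoc δ,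
      mul_assoc δ, ← map_mul, ← map_mul, ← map_mul, h2]
  have huU' : δ v ∈ U := hδU _ hv
  obtain ⟨u, hu⟩ : ∃ u, u = δ v := ⟨_, rfl⟩
  rw [← hu] at e4 huU'
  have huU : u ∈ U := huU'
  clear huU'
  obtain ⟨τ, hτ⟩ : ∃ τ, τ = δ * MulAut.conj n' := ⟨_, rfl⟩
  rw [← hτ] at e4
  have hδm : ∀ a b : T, δ (a * b) = δ a * δ b := fun a b => map_mul δ a b
  have hx2 : (MulAut.conj u * τ) * (MulAut.conj u * τ) = 1 := by
    rw [← e4, map_inv]
    have e : (MulAut.conj (b2⁻¹))⁻¹ * x * MulAut.conj b2⁻¹ * ((MulAut.conj (b2⁻¹))⁻¹ * x * MulAut.conj b2⁻¹) =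
        (MulAut.conj (b2⁻¹))⁻¹ * (x * x) * MulAut.conj b2⁻¹ := by group
    rw [e, hx]
    group
  -- the relation
  have hg : u * δ n' * δ (u * δ n') ∈ H := by
    apply hδ
    have h5 : MulAut.conj (δ (u * δ n')) * (δ * δ) = δ * MulAut.conj (u * δ n') * δ := by
      rw [mul_conj, mul_assoc]
    have h6 : MulAut.conj u * τ = MulAut.conj (u * δ n') * δ := by
      rw [hτ, mul_conj δ n', ← mul_assoc, ← map_mul]
    rw [map_mul MulAut.conj (u * δ n'), mul_assoc, h5, ← hx2, h6]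
    group
  have h6 : u * δ n' * δ u ∈ P.N := by
    have e : u * δ n' * δ u = u * δ n' * δ (u * δ n') * (δ (δ n'))⁻¹ := by rw [hδm u]; group
    rw [e]
    exact mul_mem (hHN hg) (inv_mem (hδN _ (hδN _ hn'N)))
  have hC : C P (δ n') = C P (u * δ n' * δ u) := by
    refine C_eq_of_mem_mem (g := u * δ n' * δ u) ?_ (self_mem_C _)
    exact mem_C.2 ⟨u, hUB huU, δ u, hUB (hδU _ huU), rfl⟩
  have h7 : (δ n')⁻¹ * (u * δ n' * δ u) ∈ P.B := rel_of_C_eq (hδN _ hn'N) h6 hC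
  have h8 : (δ n')⁻¹ * (u * δ n' * δ u) ∈ H := hBN _ h7 (mul_mem (inv_mem (hδN _ hn'N)) h6)
  obtain ⟨h4, hh4⟩ : ∃ h4, h4 = (δ n')⁻¹ * (u * δ n' * δ u) := ⟨_, rfl⟩
  rw [← hh4] at h8
  -- `h4 = 1`
  obtain ⟨k, hk⟩ := hU ⟨u, huU⟩
  have huk : u ^ p ^ k = 1 := by simpa using congrArg Subtype.val hk
  have h9 : h4 * (δ u)⁻¹ = (δ n')⁻¹ * u * δ n' := by rw [hh4]; group
  have h10 : (h4 * (δ u)⁻¹) ^ p ^ k = 1 := by
    rw [h9]
    have : (δ n')⁻¹ * u * δ n' = (δ n')⁻¹ * u * (δ n')⁻¹⁻¹ := by rw [inv_inv]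
    rw [this, conj_pow, huk]
    group
  have key : ∀ m : ℕ, ∃ w ∈ U, (h4 * (δ u)⁻¹) ^ m = h4 ^ m * w := by
    intro m
    induction m with
    | zero => exact ⟨1, one_mem _, by simp⟩
    | succ m ih =>
      obtain ⟨w, hw, e⟩ := ih
      refine ⟨h4⁻¹ * w * h4⁻¹⁻¹ * (δ u)⁻¹, mul_mem (hUH _ (inv_mem h8) _ hw) (inv_mem (hδU _ huU)), ?_⟩
      rw [pow_succ, e, pow_succ]
      group
  obtain ⟨w, hw, e⟩ := key (p ^ k)
  rw [h10] at e
  have h11 : h4 ^ p ^ k = 1 := by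
    have h12 : h4 ^ p ^ k = w⁻¹ := eq_inv_of_mul_eq_one_left e.symm
    have h13 : h4 ^ p ^ k ∈ U ⊓ H := Subgroup.mem_inf.2 ⟨by rw [h12]; exact inv_mem hw, pow_mem h8 _⟩
    rw [hdis] at h13
    exact Subgroup.mem_bot.1 h13
  have h12 : h4 = 1 := by
    have h13 : orderOf h4 ∣ p ^ k := orderOf_dvd_of_pow_eq_one h11
    have h14 : orderOf h4 ∣ Nat.card H := by
      have := orderOf_dvd_natCard (⟨h4, h8⟩ : H)
      rwa [Subgroup.orderOf_mk] at this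
    have h15 : orderOf h4 ∣ 1 := by
      have h16 := Nat.dvd_gcd h14 h13
      rwa [Nat.Coprime.pow_right k hH] at h16
    exact orderOf_eq_one_iff.1 (Nat.dvd_one.1 h15)
  have hτu : τ u = u⁻¹ := by
    rw [hτ, MulAut.mul_apply, MulAut.conj_apply, map_mul, map_mul, map_inv]
    rw [hh4] at h12
    have h13 : u * δ n' * δ u = δ n' := by
      have := congrArg (fun t => δ n' * t) h12
      simpa [mul_assoc] using this
    rw [eq_inv_iff_mul_eq_one]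
    have h14 : δ n' * δ u = u⁻¹ * δ n' := by
      rw [eq_inv_mul_iff_mul_eq, ← mul_assoc, h13]
    rw [h14]
    group
  -- the square root
  obtain ⟨j, hj⟩ := exists_sq ((hp.out.odd_of_ne_two hp2).pow) huk
  set w' : T := u ^ j with hw'
  have hτw : τ w' = w'⁻¹ := by rw [hw', map_pow, hτu, inv_pow]
  refine ⟨b2⁻¹ * w', n', hn'N, ?_⟩
  have e5 : MulAut.conj (b2⁻¹ * w')⁻¹ * x * MulAut.conj (b2⁻¹ * w') =
      MulAut.conj w'⁻¹ * (MulAut.conj (b2⁻¹)⁻¹ * x * MulAut.conj b2⁻¹) * MulAut.conj w' := by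
    rw [mul_inv_rev, map_mul, map_mul]
    group
  rw [e5, e4, mul_assoc, mul_assoc, mul_conj τ w', ← mul_assoc, ← mul_assoc, ← map_mul, ← map_mul, hτw]
  have e6 : w'⁻¹ * u * w'⁻¹ = 1 := by
    rw [← hj]
    group
  rw [e6, map_one, one_mul]
  exact hτ

end Cfsg.Agent.H321.IFE6
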