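import Cfsg.Agent.H321.IF.Nchar
import Cfsg.Agent.H57.IF.E6SL2

/-!
# Reduction of `δ * conj n` to `δ * conj h` in `E₆(F)` (S5719, helper321)

* `inv_lt` : conjugation by `n_i` lowers the inversion number if `w p_i < 0`, `w p_i ≠ - p_{ri i}`;
* `reduce` : the induction.
-/

set_option autoImplicit false
set_option linter.unusedSectionVars false

namespace Cfsg.Agent.H321.IFE6

open Cfsg Cfsg.Lie Cfsg.Agent.ChevalleyStructure Cfsg.Agent.ChevalleyStructure.Elts
  Cfsg.Agent.ChevalleyStructure.RootCombGood Cfsg.Agent.ChevalleyStructure.RootWord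
  Cfsg.Agent.ChevalleyStructure.GraphSymm
open Cfsg.Agent.BpExc.FamTw.Gr
open Cfsg.Agent.H296.ESixGF
open Cfsg.Agent.H79.SimpleGen Cfsg.Agent.H79.OutChev
open Cfsg.Agent.ChevalleyStructure.TwistedE6Sigma (rho eps rho_lt rho_rho eps_sq)

universe u

theorem neg_neg6 : ∀ r < 72, chevE6.neg (chevE6.neg r) = r := by decide +kernel

theorem inv_lt {w w' : List ℕ} (hw : ∀ a ∈ w, a < 6) {i : ℕ} (hi : i < 6)
    (hsq : ∀ r < 72, rho (wact chevE6 w (rho (wact chevE6 w r))) = r)
    (hneg : chevE6.IsNegRoot (wact chevE6 w (chevE6.simple i)))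
    (hne : wact chevE6 w (chevE6.simple i) ≠ chevE6.neg (chevE6.simple (ri i)))
    (he : ∀ r < 72, wact chevE6 w' r = chevE6.reflectRoot (ri i) (wact chevE6 w (chevE6.reflectRoot i r))) :
    inv chevE6 w' < inv chevE6 w := by
  have hsi : chevE6.simple i < 72 := G6.simple_lt hi
  have hi' : ri i < 6 := ri_lt i hi
  have hsi' : chevE6.simple (ri i) < 72 := G6.simple_lt hi'
  have hmem : chevE6.simple i ∈ (Finset.range chevE6.nroots).filter
      fun r => chevE6.IsPosRoot r ∧ chevE6.IsNegRoot (wact chevE6 w r) := by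
    rw [Finset.mem_filter, Finset.mem_range]
    exact ⟨hsi, G6.simple_pos hi, hneg⟩
  unfold inv
  rw [← Finset.card_erase_add_one hmem, Nat.lt_succ_iff]
  refine Finset.card_le_card_of_injOn (fun r => chevE6.reflectRoot i r) ?_ ?_
  · intro r hr
    rw [Finset.mem_coe, Finset.mem_filter, Finset.mem_range] at hr
    obtain ⟨hr1, hr2, hr3⟩ := hr
    rw [he r hr1] at hr3
    have hr' : r ≠ chevE6.simple i := by
      rintro rfl
      rw [G6.reflect_simple hi, wact_neg G6 hw hsi] at hr3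
      have h1 : chevE6.IsPosRoot (chevE6.neg (wact chevE6 w (chevE6.simple i))) := by
        rw [isPosRoot_neg G6 (wact_lt G6 hw hsi)]
        exact hneg
      refine not_pos_of_neg G6 hr3 (G6.reflect_pos hi' h1 fun h2 => hne ?_)
      rw [← h2, neg_neg6 _ (wact_lt G6 hw hsi)]
    have hs : chevE6.IsPosRoot (chevE6.reflectRoot i r) := G6.reflect_pos hi hr2 hr'
    have hs1 : chevE6.reflectRoot i r < 72 := hs.1
    rw [Finset.mem_coe, Finset.mem_erase, Finset.mem_filter, Finset.mem_range]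
    refine ⟨fun h1' => ?_, hs1, hs, ?_⟩
    · have h1 : chevE6.reflectRoot i r = chevE6.simple i := h1'
      have h2 : r = chevE6.neg (chevE6.simple i) := by
        rw [← G6.reflect_reflect hi hr1, h1, G6.reflect_simple hi]
      rw [h2, isPosRoot_neg G6 hsi] at hr2
      exact not_pos_of_neg G6 hr2 (G6.simple_pos hi)
    · rcases pos_or_neg G6 (wact_lt G6 hw hs1) with h1 | h1
      · exfalso
        have h2 : wact chevE6 w (chevE6.reflectRoot i r) = chevE6.simple (ri i) := by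
          by_contra h3
          exact not_pos_of_neg G6 hr3 (G6.reflect_pos hi' h1 h3)
        have h3 := hsq _ hs1
        rw [h2, rho_simple _ hi', ri_ri i hi] at h3
        have h4 : wact chevE6 w (chevE6.simple i) < 72 := wact_lt G6 hw hsi
        have h5 : ¬ chevE6.IsPosRoot (wact chevE6 w (chevE6.simple i)) := not_pos_of_neg G6 hneg
        rw [isPos_iff h4] at h5
        rw [isPos_iff hs1, ← h3, rho_pos _ h4] at hs
        exact h5 hs
      · exact h1
  · intro r hr s hs h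
    rw [Finset.mem_coe, Finset.mem_filter, Finset.mem_range] at hr hs
    have h1 := congrArg (chevE6.reflectRoot i) h
    simp only [] at h1
    rwa [G6.reflect_reflect hi hr.1, G6.reflect_reflect hi hs.1] at h1

variable {F : Type u} [Field F] {δ : MulAut ↥(chevE6.group F)}

theorem conj_step {T : Type u} [Group T] {δ : MulAut T} {n g : T} (hτ : (δ * MulAut.conj n) * (δ * MulAut.conj n) = 1) :
    MulAut.conj g⁻¹ * (δ * MulAut.conj n) * MulAut.conj g =
      δ * MulAut.conj (n * (((δ * MulAut.conj n) g)⁻¹ * g)) := by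
  obtain ⟨τ, hτ'⟩ : ∃ τ, τ = δ * MulAut.conj n := ⟨_, rfl⟩
  rw [← hτ'] at hτ ⊢
  have h1 : τ (τ g) = g := DFunLike.congr_fun hτ g
  have hz : τ ((τ g)⁻¹ * g) = g⁻¹ * τ g := by rw [map_mul, map_inv, h1]
  rw [map_mul MulAut.conj n, ← mul_assoc δ, ← hτ', mul_conj τ, hz, map_mul, mul_assoc, mul_assoc, mul_conj τ g]

theorem conj_sq {T : Type u} [Group T] {τ : MulAut T} {g : T} (hτ : τ * τ = 1) :
    (MulAut.conj g⁻¹ * τ * MulAut.conj g) * (MulAut.conj g⁻¹ * τ * MulAut.conj g) = 1 := by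
  have e : (MulAut.conj g⁻¹ * τ * MulAut.conj g) * (MulAut.conj g⁻¹ * τ * MulAut.conj g) =
      MulAut.conj g⁻¹ * (τ * τ) * MulAut.conj g := by
    rw [map_inv]
    group
  rw [e, hτ, map_inv]
  group

/-- the goal of the induction -/
def Red (δ : MulAut ↥(chevE6.group F)) (τ : MulAut ↥(chevE6.group F)) : Prop :=
  ∃ g h : ↥(chevE6.group F), (h : GL chevE6.Idx F) ∈ chevE6.diagonalSubgroup F ∧
    MulAut.conj g⁻¹ * τ * MulAut.conj g = δ * MulAut.conj h

theorem Red.of_conj {τ : MulAut ↥(chevE6.group F)} {g : ↥(chevE6.group F)}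
    (h : Red δ (MulAut.conj g⁻¹ * τ * MulAut.conj g)) : Red δ τ := by
  obtain ⟨k, t, ht, e⟩ := h
  refine ⟨g * k, t, ht, ?_⟩
  rw [← e, mul_inv_rev, map_mul, map_mul]
  simp only [mul_assoc]

theorem ma_tau (hδ : MA δ rho) {n : ↥(chevE6.group F)} {w : List ℕ} (h : MA (MulAut.conj n) (wact chevE6 w)) :
    MA (δ * MulAut.conj n) (fun r => rho (wact chevE6 w r)) := hδ.mul h

theorem sq_tau (hδ : MA δ rho) {n : ↥(chevE6.group F)} {w : List ℕ} (h : MA (MulAut.conj n) (wact chevE6 w))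
    (hτ : (δ * MulAut.conj n) * (δ * MulAut.conj n) = 1) :
    ∀ r < 72, rho (wact chevE6 w (rho (wact chevE6 w r))) = r := by
  intro r hr
  have h1 := (ma_tau hδ h).mul (ma_tau hδ h)
  rw [hτ] at h1
  exact h1.unique MA.one hr

theorem app_lt {w : List ℕ} (hw : ∀ a ∈ w, a < 6) {i : ℕ} (hi : i < 6) : ∀ a ∈ w ++ [i], a < 6 := by
  intro a ha
  rcases List.mem_append.1 ha with ha | ha
  · exact hw a ha
  · rw [List.mem_singleton] at ha
    rw [ha]
    exact hi

/-- the statement of the word lemma -/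
def WordIndep : Prop := ∀ {w : List ℕ}, (∀ a ∈ w, a < 6) →
  (∀ i < 6, chevE6.IsPosRoot (wact chevE6 w (chevE6.simple i)) ∨
    wact chevE6 w (chevE6.simple i) = chevE6.neg (chevE6.simple (ri i))) →
  (∀ i < 6, ∀ j < 6, chevE6.cartan i (chevE6.simple j) = -1 →
    wact chevE6 w (chevE6.simple i) = chevE6.neg (chevE6.simple (ri i)) →
    wact chevE6 w (chevE6.simple j) = chevE6.neg (chevE6.simple (ri j)) → False) →
  (∀ r < 72, wact chevE6 w r = r) ∨ (∀ r < 72, wact chevE6 w r = chevE6.reflectRoot 1 r) ∨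
    (∀ r < 72, wact chevE6 w r = chevE6.reflectRoot 3 r)

theorem reduce [Finite F] (hWI : WordIndep) (h2 : (2 : F) ≠ 0) (hδ : MA δ rho) :
    ∀ (m : ℕ) (w : List ℕ) (n : ↥(chevE6.group F)), (∀ a ∈ w, a < 6) → MA (MulAut.conj n) (wact chevE6 w) →
      inv chevE6 w = m → (δ * MulAut.conj n) * (δ * MulAut.conj n) = 1 → Red δ (δ * MulAut.conj n) := by
  intro m
  induction m using Nat.strong_induction_on with
  | _ m ih =>
  -- one negated simple root, square
  have R1 : ∀ (w : List ℕ) (n : ↥(chevE6.group F)), (∀ a ∈ w, a < 6) → MA (MulAut.conj n) (wact chevE6 w) →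
      inv chevE6 w = m → (δ * MulAut.conj n) * (δ * MulAut.conj n) = 1 → ∀ i < 6,
      wact chevE6 w (chevE6.simple i) = chevE6.neg (chevE6.simple (ri i)) → ∀ e : F, e ≠ 0 →
      (∀ t, (δ * MulAut.conj n) (X (chevE6.simple i) t) = X (chevE6.neg (chevE6.simple i)) (e * e * t)) →
      Red δ (δ * MulAut.conj n) := by
    intro w n hw hn hm hτ i hi hwi e he hx
    obtain ⟨g, u, hu, hg⟩ := H57.IFE6.sl2_sq (hE := hE) h2 hτ (G6.simple_lt hi) he hx
    apply Red.of_conj (g := g)
    have h3 := conj_sq (g := g) hτ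
    rw [conj_step hτ, hg] at h3 ⊢
    have hneg : chevE6.IsNegRoot (wact chevE6 w (chevE6.simple i)) := by
      rw [hwi, isNegRoot_neg G6 (G6.simple_lt (ri_lt i hi))]
      exact G6.simple_pos (ri_lt i hi)
    have h4 := inv_append_of_neg G6 hw hi hneg
    refine ih (inv chevE6 (w ++ [i])) (by omega) (w ++ [i]) _ (app_lt hw hi) ?_ rfl h3
    rw [map_mul]
    exact (hn.mul (ma_nS hi hu)).congr fun r hr => by rw [wact_append, wact_cons, wact_nil]
  intro w n hw hn hm hτ
  have hθ := ma_tau hδ hn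
  have hsq := sq_tau hδ hn hτ
  -- the scalars at the negated roots
  have hsc : ∀ i < 6, wact chevE6 w (chevE6.simple i) = chevE6.neg (chevE6.simple (ri i)) →
      ∃ κ : F, κ ≠ 0 ∧ ∀ t, (δ * MulAut.conj n) (X (chevE6.simple i) t) = X (chevE6.neg (chevE6.simple i)) (κ * t) := by
    intro i hi hwi
    obtain ⟨-, κ, hκ, h3⟩ := hθ _ (G6.simple_lt hi)
    refine ⟨κ, hκ, fun t => ?_⟩
    rw [h3]
    simp only [hwi]
    rw [rho_neg _ (G6.simple_lt (ri_lt i hi)), rho_simple _ (ri_lt i hi), ri_ri i hi]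
  by_cases h4 : ∃ i < 6, chevE6.IsNegRoot (wact chevE6 w (chevE6.simple i)) ∧
      wact chevE6 w (chevE6.simple i) ≠ chevE6.neg (chevE6.simple (ri i))
  · obtain ⟨i, hi, h5, h6⟩ := h4
    obtain ⟨k, hk⟩ : ∃ k, k = nS hE (chevE6.simple i) (1 : F) := ⟨_, rfl⟩
    have hk1 : MA (MulAut.conj k) (chevE6.reflectRoot i) := by rw [hk]; exact ma_nS1 hi
    have hk2 : MA (MulAut.conj k⁻¹) (wact chevE6 [i]) := by
      rw [map_inv]
      exact hk1.inv fun r hr => ⟨G6.reflect_lt hi hr, G6.reflect_reflect hi hr⟩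
    have hk3 : MA (MulAut.conj (δ⁻¹ k⁻¹)) (wact chevE6 [ri i]) :=
      ma_delta (inv_rho hδ) (by
        intro a ha
        rw [List.mem_singleton] at ha
        rw [ha]
        exact hi) hk2
    apply Red.of_conj (g := k)
    have h3 := conj_sq (g := k) hτ
    have e1 : MulAut.conj k⁻¹ * (δ * MulAut.conj n) * MulAut.conj k = δ * MulAut.conj (δ⁻¹ k⁻¹ * n * k) := by
      rw [map_mul, map_mul, ← mul_assoc δ, ← mul_assoc δ, mul_conj δ (δ⁻¹ k⁻¹), MulAut.apply_inv_self]
      simp only [mul_assoc]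
    rw [e1] at h3 ⊢
    have h7 : MA (MulAut.conj (δ⁻¹ k⁻¹ * n * k)) (wact chevE6 ([ri i] ++ w ++ [i])) := by
      rw [map_mul, map_mul]
      exact ((hk3.mul hn).mul hk1).congr fun r hr => by
        rw [wact_append, wact_append, wact_cons (w := []), wact_nil]
        rfl
    have h8 : ∀ a ∈ [ri i] ++ w ++ [i], a < 6 := by
      intro a ha
      rcases List.mem_append.1 ha with ha | ha
      · rcases List.mem_append.1 ha with ha | ha
        · rw [List.mem_singleton] at ha
          rw [ha]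
          exact ri_lt i hi
        · exact hw a ha
      · rw [List.mem_singleton] at ha
        rw [ha]
        exact hi
    refine ih (inv chevE6 ([ri i] ++ w ++ [i])) ?_ _ _ h8 h7 rfl h3
    rw [← hm]
    exact inv_lt hw hi hsq h5 h6 fun r hr => by
      rw [wact_append, wact_append, wact_cons, wact_nil, wact_cons, wact_nil]
  push Not at h4
  by_cases h5 : ∃ i < 6, ∃ j < 6, chevE6.cartan i (chevE6.simple j) = -1 ∧
      wact chevE6 w (chevE6.simple i) = chevE6.neg (chevE6.simple (ri i)) ∧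
      wact chevE6 w (chevE6.simple j) = chevE6.neg (chevE6.simple (ri j))
  · obtain ⟨i, hi, j, hj, h6, h7, h8⟩ := h5
    obtain ⟨κ, hκ, h9⟩ := hsc i hi h7
    obtain ⟨s, hs, h10⟩ := hsc j hj h8
    obtain ⟨g, hg⟩ := H57.IFE6.sl2_h (hE := hE) h2 hτ (G6.simple_lt hi) hκ h9 hs
    apply Red.of_conj (g := g)
    have h3 := conj_sq (g := g) hτ
    rw [conj_step hτ, hg] at h3 ⊢
    refine R1 w _ hw ?_ hm h3 j hj h8 1 one_ne_zero fun t => ?_
    · rw [map_mul]
      exact hn.mul (ma_hS' hi hs)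
    · rw [map_mul, ← mul_assoc, MulAut.mul_apply, ma_hS hi hs _ (G6.simple_lt hj), h10, h6, zpow_neg_one,
        mul_inv_cancel_left₀ hs, one_mul, one_mul]
  push Not at h5
  have h6 : ∀ i < 6, chevE6.IsPosRoot (wact chevE6 w (chevE6.simple i)) ∨
      wact chevE6 w (chevE6.simple i) = chevE6.neg (chevE6.simple (ri i)) := by
    intro i hi
    rcases pos_or_neg G6 (wact_lt G6 hw (G6.simple_lt hi)) with h7 | h7
    · exact Or.inl h7
    · exact Or.inr (h4 i hi h7)
  rcases hWI hw h6 fun i hi j hj h7 h8 h9 => h5 i hi j hj h7 h8 h9 with h7 | h7 | h7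
  · exact ⟨1, n, mem_H_of_one (hn.congr h7), by rw [inv_one, map_one, one_mul, mul_one]⟩
  · have e1 : chevE6.simple 1 = 46 := by decide +kernel
    have e2 : wact chevE6 w (chevE6.simple 1) = chevE6.neg (chevE6.simple (ri 1)) := by
      rw [h7 _ (G6.simple_lt (by decide))]
      decide +kernel
    obtain ⟨κ, hκ, h9⟩ := hsc 1 (by decide) e2
    obtain ⟨-, μ, hμ, h10⟩ := hθ 39 (by decide)
    have e3 : rho (wact chevE6 w 39) = 47 := by
      rw [h7 39 (by decide)]
      decide +kernel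
    simp only [e3] at h10
    rw [e1] at h9
    obtain ⟨e, he, rfl⟩ := H57.IFE6.comm_sq (hE := hE) hτ (Or.inl rfl) hμ h9 h10
    exact R1 w n hw hn hm hτ 1 (by decide) e2 e he (by rw [e1]; exact h9)
  · have e1 : chevE6.simple 3 = 39 := by decide +kernel
    have e2 : wact chevE6 w (chevE6.simple 3) = chevE6.neg (chevE6.simple (ri 3)) := by
      rw [h7 _ (G6.simple_lt (by decide))]
      decide +kernel
    obtain ⟨κ, hκ, h9⟩ := hsc 3 (by decide) e2
    obtain ⟨-, μ, hμ, h10⟩ := hθ 46 (by decide)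
    have e3 : rho (wact chevE6 w 46) = 47 := by
      rw [h7 46 (by decide)]
      decide +kernel
    simp only [e3] at h10
    rw [e1] at h9
    obtain ⟨e, he, rfl⟩ := H57.IFE6.comm_sq (hE := hE) hτ (Or.inr rfl) hμ h9 h10
    exact R1 w n hw hn hm hτ 3 (by decide) e2 e he (by rw [e1]; exact h9)

/-! ### elements of `H` -/

theorem isD_hG {i : ℕ} (hi : i < 6) (u : Fˣ) :
    ∃ c, IsD hE c (MulAut.conj (⟨hG hE (chevE6.simple i) (u : F), hG_mem_group hE _ _⟩ : ↥(chevE6.group F))) := by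
  refine ⟨fun j => u ^ chevE6.cartan i (chevE6.simple j), fun j t => ?_⟩
  have h1 := BruhatSplit.hG_simple_conj hE hi (simple_lt hE j.2) u.ne_zero t
  have h2 := BruhatSplit.hG_simple_conj hE hi (neg_simple_lt hE j.2) u.ne_zero t
  constructor
  · apply Subtype.ext
    refine h1.trans ?_
    rw [Units.val_zpow_eq_zpow_val]
    rfl
  · apply Subtype.ext
    refine h2.trans ?_
    have h3 : chevE6.cartan i (chevE6.neg (chevE6.simple j)) = -chevE6.cartan i (chevE6.simple j) :=
      RootVec.cartan_neg (RootVecTab.checked_of_mem hE) hi (simple_lt hE j.2)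
    rw [h3, zpow_neg, ← Units.val_zpow_eq_zpow_val, ← Units.val_inv_eq_inv_val]
    rfl

theorem isD_H {g : ↥(chevE6.group F)} (hg : (g : GL chevE6.Idx F) ∈ chevE6.diagonalSubgroup F) :
    ∃ c, IsD hE c (MulAut.conj g) := by
  obtain ⟨c, hc0, h⟩ := Cfsg.Agent.S1034.result chevE6 hE (g : GL chevE6.Idx F) hg
  have key : ∀ l : List ℕ, (∀ i ∈ l, i < 6) → ∃ g' : ↥(chevE6.group F), (g' : GL chevE6.Idx F) =
      wordG hE (l.flatMap fun i => chevE6.hWord (chevE6.simple i) (c i)) ∧ ∃ c', IsD hE c' (MulAut.conj g') := by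
    intro l
    induction l with
    | nil => exact fun _ => ⟨1, by rw [List.flatMap_nil, wordG_nil]; rfl, 1, by rw [map_one]; exact IsD.one hE⟩
    | cons a l ih =>
      intro hl
      obtain ⟨g', h1, c', h2⟩ := ih fun i hi => hl i (List.mem_cons_of_mem _ hi)
      obtain ⟨c'', h3⟩ := isD_hG (hl a List.mem_cons_self) (Units.mk0 (c a) (hc0 a (hl a List.mem_cons_self)))
      refine ⟨⟨hG hE (chevE6.simple a) (c a), hG_mem_group hE _ _⟩ * g', ?_, c'' * c', ?_⟩
      · rw [List.flatMap_cons, wordG_append, Subgroup.coe_mul, h1]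
        rfl
      · rw [map_mul]
        exact h3.mul h2
  obtain ⟨g', h1, c', h2⟩ := key (List.range chevE6.rank) fun i hi => List.mem_range.1 hi
  have h3 : g = g' := Subtype.ext (((eq_wordG_iff hE _ _).2 h).trans h1.symm)
  rw [h3]
  exact ⟨c', h2⟩

end Cfsg.Agent.H321.IFE6
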