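import Cfsg.Agent.H996.BruChev
import Cfsg.Agent.ChevalleyStructure.NPerm

/-!
# Words in the simple reflections (S5719, helper321)

* `wact_reflect` : `v (s_j r) = s_k (v r)` if `v p_j = - p_k`;
* `wact_triv` : a word making all simple roots positive acts trivially.
-/

set_option autoImplicit false

namespace Cfsg.Agent.H321.IFE6

open Cfsg.Lie Cfsg.Agent.ChevalleyStructure Cfsg.Agent.ChevalleyStructure.Elts
  Cfsg.Agent.ChevalleyStructure.RootCombGood Cfsg.Agent.ChevalleyStructure.RootWord
  Cfsg.Agent.ChevalleyStructure.BruhatSplit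

universe u

variable {D : ChevalleyDatum}

theorem wact_reflect (G : Good D) {v : List ℕ} (hv : ∀ a ∈ v, a < D.rank) {j k : ℕ} (hj : j < D.rank) (hk : k < D.rank)
    (h : wact D v (D.simple j) = D.neg (D.simple k)) {r : ℕ} (hr : r < D.nroots) :
    wact D v (D.reflectRoot j r) = D.reflectRoot k (wact D v r) := by
  have hvr := wact_lt G hv hr
  refine G.co_inj (wact_lt G hv (G.reflect_lt hj hr)) (G.reflect_lt hk hvr) fun a ha => ?_
  rw [G.co_reflect hk hvr ha, co_wact G hv (G.reflect_lt hj hr) ha]
  have h1 : ∀ m ∈ Finset.range D.rank, co D (D.reflectRoot j r) m * co D (wact D v (D.simple m)) a =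
      co D r m * co D (wact D v (D.simple m)) a -
        (if m = j then car D r (D.simple j) * co D (wact D v (D.simple j)) a else 0) := by
    intro m hm
    rw [G.co_reflect hj hr (Finset.mem_range.1 hm)]
    by_cases hmj : m = j
    · subst hmj
      rw [if_pos rfl, if_pos rfl]
      ring
    · rw [if_neg hmj, if_neg hmj]
      ring
  rw [Finset.sum_congr rfl h1, Finset.sum_sub_distrib, ← co_wact G hv hr ha, Finset.sum_ite_eq',
    if_pos (Finset.mem_range.2 hj), h, G.co_neg (G.simple_lt hk) ha, G.co_simple hk ha]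
  have h2 : car D (wact D v r) (D.simple k) = - car D r (D.simple j) := by
    have h3 := car_wact G hv hr (G.simple_lt hj)
    rw [h, car_neg_right G _ (G.simple_lt hk)] at h3
    rw [← h3, _root_.neg_neg]
  by_cases hka : k = a
  · subst hka
    rw [if_pos rfl, if_pos rfl, h2]
    ring
  · rw [if_neg hka, if_neg (fun h => hka h.symm)]
    ring

/-- a product of the `n_i` acts as the word -/
theorem exists_prod (hD : InList D) (F : Type u) [Field F] (v : List ℕ) : (∀ a ∈ v, a < D.rank) →
    ∃ g ∈ D.monomialSubgroup F, Acts g v := by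
  induction v with
  | nil => exact fun _ => ⟨1, one_mem _, acts_one⟩
  | cons i v ih =>
    intro hv
    obtain ⟨g, hg, h⟩ := ih fun a ha => hv a (List.mem_cons_of_mem _ ha)
    have hi : i < D.rank := hv i List.mem_cons_self
    have G := RootComb.good_of_mem hD
    have h1 : Acts (nG hD (D.simple i) (1 : F)) [i] := acts_nG_simple hD hi
    have h2 := Acts.mul G h1 h fun a ha => hv a (List.mem_cons_of_mem _ ha)
    rw [List.singleton_append] at h2
    have h3 : nG hD (D.simple i) (1 : F) ∈ D.monomialSubgroup F := by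
      have := NPerm.nG_simple_mem hD F hi
      exact this
    exact ⟨nG hD (D.simple i) (1 : F) * g, mul_mem h3 hg, h2⟩

/-- **A word making all simple roots positive acts trivially.** -/
theorem wact_triv (hD : InList D) {v : List ℕ} (hv : ∀ a ∈ v, a < D.rank)
    (h : ∀ i < D.rank, D.IsPosRoot (wact D v (D.simple i))) {r : ℕ} (hr : r < D.nroots) : wact D v r = r := by
  have G := RootComb.good_of_mem hD
  obtain ⟨g, hg, hA⟩ := exists_prod hD (ZMod 2) v hv
  have hle : (D.posUnipotent (ZMod 2)).map (MulAut.conj g).toMonoidHom ≤ D.posUnipotent (ZMod 2) := by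
    rw [Subgroup.map_le_iff_le_comap, posUnipotent_le_iff hD]
    intro s hs t
    have h1 : (MulAut.conj g).toMonoidHom (xG hD s t) ∈ D.rootSubgroup (ZMod 2) (wact D v s) := by
      rw [← hA s hs.1]
      exact ⟨_, (mem_rootSubgroup_iff hD s _).2 ⟨t, rfl⟩, rfl⟩
    obtain ⟨u, hu⟩ := (mem_rootSubgroup_iff hD _ _).1 h1
    rw [Subgroup.mem_comap, hu]
    exact xG_mem_posUnipotent hD (wact_pos_of_simple G hv h hs) u
  have heq : (D.posUnipotent (ZMod 2)).map (MulAut.conj g).toMonoidHom = D.posUnipotent (ZMod 2) := by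
    apply Subgroup.eq_of_le_of_card_ge hle
    rw [Nat.card_congr ((D.posUnipotent (ZMod 2)).equivMapOfInjective _ (MulAut.conj g).injective).symm.toEquiv]
  have hn : g ∈ Subgroup.normalizer (D.posUnipotent (ZMod 2) : Set (GL D.Idx (ZMod 2))) := by
    rw [Subgroup.mem_normalizer_iff]
    intro u
    constructor
    · intro hu
      rw [← heq]
      exact ⟨u, hu, rfl⟩
    · intro hu
      have hu' : g * u * g⁻¹ ∈ D.posUnipotent (ZMod 2) := hu
      rw [← heq] at hu'
      obtain ⟨u', hu1, e⟩ := hu'
      have e' : g * u' * g⁻¹ = g * u * g⁻¹ := e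
      have : u' = u := by simpa using e'
      rw [← this]
      exact hu1
  have hH := H996.BruChev.mem_diagonal_of_normalizer hD hg hn
  have h2 := hA r hr
  have h3 := acts_of_mem_diagonal hD G hH r hr
  rw [wact_nil] at h3
  exact (NPerm.rootSubgroup_injective hD (ZMod 2) hr (wact_lt G hv hr) (h3.symm.trans h2)).symm

end Cfsg.Agent.H321.IFE6
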